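import Cfsg.Agent.HSE.Pc2

/-! The table of `D₈ ≀ 2` for `L33/B1c`.  `u 0, u 1` generate `D₁`, `u 2, u 3` generate `D₂`; masks: `P₀ = 64`,
`Z₀ = 124`, `M₀ = 112`, `E₀ = 76`. -/

set_option autoImplicit false
set_option maxRecDepth 100000
set_option synthInstance.maxHeartbeats 400000
set_option synthInstance.maxSize 4096

namespace Cfsg.Agent.HSE.L3

open Cfsg.Agent.Comp Cfsg.Agent.X32 Pc Equiv

namespace B1c

def C0 : ℕ := 0x0
def C1 : ℕ := 0x10000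
def C2 : ℕ := 0x3000200010000
def C3 : ℕ := 0x70006000500040003000200010000
def C4 : ℕ := 0xc000d000e000f00090008000b000a00060007000400050003000200010000
def C5 : ℕ := 0x1c001d001e001f001b001a0019001800140015001600170013001200110010000c000d000e000f000b000a0009000800040005000600070003000200010000
def C6 : ℕ := 0x2a002b00290028002e002f002d002c00260027002500240022002300210020003a003b00390038003e003f003d003c00360037003500340032003300310030001a001b00190018001e001f001d001c00160017001500140012001300110010000a000b00090008000e000f000d000c00060007000500040002000300010000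
def L : List Pc.Lv := [⟨6, 64, 128, 0, C6⟩, ⟨5, 32, 64, 0, C5⟩, ⟨4, 16, 32, 0, C4⟩, ⟨3, 8, 16, 0, C3⟩, ⟨2, 4, 8, 0, C2⟩, ⟨1, 2, 4, 0, C1⟩, ⟨0, 1, 2, 0, C0⟩]
def R : List (ℕ × ℕ × List ℕ) := [(0, 0, []), (1, 1, []), (1, 0, [0]), (2, 2, []), (2, 0, [0]), (2, 1, [1]), (3, 3, []), (3, 0, [0]), (3, 1, [1]), (3, 2, [2]), (4, 4, []), (4, 0, [0]), (4, 1, [1]), (4, 2, [2, 0]), (4, 3, [17, 3]), (5, 5, []), (5, 0, [0]), (5, 1, [1]), (5, 2, [2, 1, 0]), (5, 3, [3]), (5, 4, [4]), (6, 6, []), (6, 0, [0]), (6, 1, [0, 1]), (6, 2, [2]), (6, 3, [2, 3]), (6, 4, [4]), (6, 5, [4, 5])]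
theorem hL : Pc.chk L = true := by decide +kernel
instance ok : Fact (Pc.tab L).OK := ⟨Pc.ok hL⟩
abbrev K := TG (Pc.tab L)
noncomputable abbrev gz : K := Pc.gn 0
noncomputable abbrev ge : K := Pc.gn 1
noncomputable abbrev ga : K := Pc.gn 2
noncomputable abbrev gf : K := Pc.gn 3
noncomputable abbrev gb : K := Pc.gn 4
noncomputable abbrev gc : K := Pc.gn 5
noncomputable abbrev gt : K := Pc.gn 6
noncomputable abbrev gs : List K := [gz, ge, ga, gf, gb, gc, gt]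
theorem card : Nat.card K = 128 := Pc.card hL
theorem hom {G : Type*} [Group G] {z e a f b c t : G}
    (hz : z * z = 1)
    (he : e * e = 1)
    (he_z : Cj e z (z))
    (ha : a * a = 1)
    (ha_z : Cj a z (z))
    (ha_e : Cj a e (e))
    (hf : f * f = 1)
    (hf_z : Cj f z (z))
    (hf_e : Cj f e (e))
    (hf_a : Cj f a (a))
    (hb : b * b = 1)
    (hb_z : Cj b z (z))
    (hb_e : Cj b e (e))
    (hb_a : Cj b a (a * z))
    (hb_f : Cj b f (e⁻¹ * f))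
    (hc : c * c = 1)
    (hc_z : Cj c z (z))
    (hc_e : Cj c e (e))
    (hc_a : Cj c a (a * e * z))
    (hc_f : Cj c f (f))
    (hc_b : Cj c b (b))
    (ht : t * t = 1)
    (ht_z : Cj t z (z))
    (ht_e : Cj t e (z * e))
    (ht_a : Cj t a (a))
    (ht_f : Cj t f (a * f))
    (ht_b : Cj t b (b))
    (ht_c : Cj t c (b * c)) :
    ∃ φ : K →* G, φ gz = z ∧ φ ge = e ∧ φ ga = a ∧ φ gf = f ∧ φ gb = b ∧ φ gc = c ∧ φ gt = t ∧
      ∀ H : Subgroup G, z ∈ H → e ∈ H → a ∈ H → f ∈ H → b ∈ H → c ∈ H → t ∈ H → φ.range ≤ H := by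
  obtain ⟨φ, h⟩ := Pc.exists_hom (x := LES.tup [z, e, a, f, b, c, t]) (R := R) (by
    simp only [R, List.forall_mem_cons, List.not_mem_nil, false_imp_iff, implies_true, and_true]
    exact ⟨hz, he, he_z, ha, ha_z, ha_e, hf, hf_z, hf_e, hf_a, hb, hb_z, hb_e, hb_a, hb_f, hc, hc_z, hc_e, Eq.trans hc_a (by simp only [mul_assoc]; rfl), hc_f, hc_b, ht, ht_z, ht_e, ht_a, ht_f, ht_b, ht_c⟩) hL (by decide +kernel)
  refine ⟨φ, h 0 (by decide), h 1 (by decide), h 2 (by decide), h 3 (by decide), h 4 (by decide), h 5 (by decide), h 6 (by decide), fun H m0 m1 m2 m3 m4 m5 m6 => Pc.range_le hL φ fun i hi => ?_⟩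
  rw [h i hi]; change i < 7 at hi
  interval_cases i <;> assumption

/-- `a f, c, f, b c` -/
noncomputable abbrev u (n : Fin 4) : K := TG.e (lk 0x3000080020000c n.val)
/-- the centres `e z, e` -/
noncomputable abbrev zz (n : Fin 4) : K := TG.e (lk 0x20003 (n.val / 2))
abbrev l4 : List (Fin 4) := [0, 1, 2, 3]
theorem all4 : ∀ n : Fin 4, n ∈ l4 := by decide
/-- the type of `t` -/
def τ : Perm (Fin 4) := swap 0 2 * swap 1 3
/-- type `(1, 1)` -/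
def w : Perm (Fin 4) := swap 0 1 * swap 2 3
/-- block preserving -/
def Bp (π : Perm (Fin 4)) : Prop := ∀ n m : Fin 4, n.val / 2 = m.val / 2 → (π n).val / 2 = (π m).val / 2
instance (π : Perm (Fin 4)) : Decidable (Bp π) := by unfold Bp; infer_instance

theorem p1 : ∀ π, Bp π → π * τ ≠ τ * π → π * τ * π⁻¹ = τ * w := by decide +kernel
theorem p2 : ∀ π, Bp π → π * τ = τ * π → π = 1 ∨ π = τ ∨ π = w ∨ π = τ * w := by decide +kernel
theorem p3 : ∀ π, Bp π → π * π = 1 → π = τ ∨ π = τ * w ∨ ∀ n, (π n).val / 2 = n.val / 2 := by decide +kernel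
theorem p4 : ∀ π, Bp π → π 0 = 0 → π 2 = 2 → π = 1 := by decide +kernel
theorem p5 : ∀ α β : Perm (Fin 4), α = w ∨ α = τ * w → β = w ∨ β = τ * w → α⁻¹ * β = 1 ∨ α⁻¹ * β = τ := by
  rintro _ _ (rfl | rfl) (rfl | rfl) <;> decide +kernel
theorem p6 : τ * w * τ = w ∧ w * τ * w⁻¹ = τ ∧ w ≠ 1 ∧ w ≠ τ ∧ τ ≠ 1 ∧ τ 0 = 2 ∧ τ 2 = 0 := by decide +kernel

noncomputable def P₀ : Subgroup K := predSub (Msk 64) (BD.of (by decide +kernel)) (BD.of (by decide +kernel))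
noncomputable def Z₀ : Subgroup K := predSub (Msk 124) (BD.of (by decide +kernel)) (BD.of (by decide +kernel))
noncomputable def M₀ : Subgroup K := predSub (Msk 112) (BD.of (by decide +kernel)) (BD.of (by decide +kernel))
noncomputable def E₀ : Subgroup K := predSub (Msk 76) (BD.of (by decide +kernel)) (BD.of (by decide +kernel))
instance iP (k : K) {a : ℕ} [TG.EV k a] : BD (k ∈ P₀) (Nat.beq (Nat.land a 64) 0) := instMsk 64 k
instance iZ (k : K) {a : ℕ} [TG.EV k a] : BD (k ∈ Z₀) (Nat.beq (Nat.land a 124) 0) := instMsk 124 k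
instance iM (k : K) {a : ℕ} [TG.EV k a] : BD (k ∈ M₀) (Nat.beq (Nat.land a 112) 0) := instMsk 112 k
instance iE (k : K) {a : ℕ} [TG.EV k a] : BD (k ∈ E₀) (Nat.beq (Nat.land a 76) 0) := instMsk 76 k

theorem cP : Nat.card P₀ = 64 := (TG.card_eq (· ∈ P₀)).trans (by decide +kernel)
theorem cZ : Nat.card Z₀ = 4 := (TG.card_eq (· ∈ Z₀)).trans (by decide +kernel)
theorem cM : Nat.card M₀ = 16 := (TG.card_eq (· ∈ M₀)).trans (by decide +kernel)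
theorem cE : Nat.card E₀ = 16 := (TG.card_eq (· ∈ E₀)).trans (by decide +kernel)
theorem fz : ∀ k : K, (∀ g ∈ gs, k * g = g * k) → k * k = 1 → k = 1 ∨ k ∈ [gz] := BD.of (by decide +kernel)
theorem nP : P₀.Normal :=
  ⟨(BD.of (by decide +kernel) : ∀ n : K, n ∈ P₀ → ∀ g : K, g * n * g⁻¹ ∈ P₀)⟩
theorem f0 : ∀ k : K, (k ∈ Z₀ → k ∈ M₀) ∧ (k ∈ M₀ → k ∈ P₀ ∧ k * k = 1) ∧ (k ∈ E₀ → k ∈ P₀ ∧ k * k = 1) ∧
    (k ∈ P₀ → ∃ m : K, m ∈ M₀ ∧ m⁻¹ * k ∈ E₀) ∧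
    (k ∈ M₀ → k = 1 ∨ ∃ g ∈ [gz, ge, ga, gf], (g * k).v < k.v ∧ g * k ∈ M₀) ∧
    (k ∈ P₀ → (∀ n ∈ l4, k * u n = u n * k) → k ∈ Z₀) ∧
    (k ∈ Z₀ → k = 1 ∨ k = zz 0 * zz 2 ∨ ∃ n ∈ l4, k = zz n) ∧
    (k ∉ P₀ → k * k = 1 → ∃ q : K, q ∈ P₀ ∧ Cj q gt k) := BD.of (by decide +kernel)
theorem fZ : ∀ k : K, k ∈ Z₀ → ∀ p : K, p ∈ P₀ → k * p = p * k := BD.of (by decide +kernel)
theorem fM : ∀ k : K, k ∈ Z₀ → ∀ p : K, p ∈ M₀ → p * k = k * p := BD.of (by decide +kernel)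
theorem f1 : ∀ k : K, k ∈ P₀ → k ∉ Z₀ → k * k = 1 → ∀ ζ : K, (∀ n ∈ l4, u n * k = k * u n ∨ u n * k = k * ζ * u n) →
    ∃ m ∈ l4, ζ = zz m ∧ (u m)⁻¹ * k ∈ Z₀ := BD.of (by decide +kernel)
theorem f2 : ∀ n ∈ l4, (u n ∈ P₀ ∧ u n ∉ Z₀ ∧ u n * u n = 1 ∧ zz n ∈ Z₀ ∧ zz n ≠ zz ((τ * w) n)) ∧
    (∀ m ∈ l4, ((u m)⁻¹ * u n ∈ Z₀ → m.val = n.val) ∧ (zz n = zz m → n.val / 2 = m.val / 2)) ∧
    ∀ p : K, (p ∈ P₀ → (p * u n = u n * p ∨ p * u n = u n * zz n * p) ∧ Cj p (zz n) (zz n) ∧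
      (u n)⁻¹ * (p * u n * p⁻¹) ∈ Z₀) ∧
      (p ∉ P₀ → Cj p (zz n) (zz (τ n)) ∧ (u (τ n))⁻¹ * (p * u n * p⁻¹) ∈ Z₀) := BD.of (by decide +kernel)
theorem f3 : u 0 ∈ M₀ ∧ u 2 ∈ M₀ ∧ gz ∈ Z₀ ∧ ge ∈ Z₀ ∧ gf = u 2 ∧ ga = u 0 * u 2 ∧ gt ∉ P₀ ∧
    zz 0 * zz 2 * (zz 0 * zz 2) = 1 := BD.of (by decide +kernel)
theorem fa : ∀ k : K, k ∈ P₀ → k * k = 1 → (∀ n ∈ l4, k * u n = u n * k ↔ k * u (w n) = u (w n) * k) → k ∈ Z₀ :=
  BD.of (by decide +kernel)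
theorem fb : ∀ k : K, k ∈ P₀ → k * k = 1 → k ∉ Z₀ →
    (∀ n ∈ l4, k * u n = u n * k ↔ k * u ((τ * w) n) = u ((τ * w) n) * k) → ∀ k' : K, k' ∈ P₀ → k' * k' = 1 →
    k' ∉ Z₀ → (∀ n ∈ l4, k' * u n = u n * k' ↔ k' * u ((τ * w) n) = u ((τ * w) n) * k') → k * k' = k' * k →
    k⁻¹ * k' ∈ Z₀ := BD.of (by decide +kernel)

theorem M₀_le {H : Subgroup K} (hH : ∀ g ∈ [gz, ge, ga, gf], g ∈ H) : M₀ ≤ H := fun k hk => by
  induction hn : k.v using Nat.strong_induction_on generalizing k with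
  | _ n ih =>
    rcases (f0 k).2.2.2.2.1 hk with rfl | ⟨g, hg, a, b⟩
    · exact one_mem H
    · exact (H.mul_mem_cancel_left (hH g hg)).1 (ih _ (hn ▸ a) _ b rfl)

end B1c

end Cfsg.Agent.HSE.L3
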